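import Cfsg.Agent.H826.DP.Core3
import Cfsg.Agent.S0246

/-!
# Symplectic and orthogonal groups in odd characteristic, three components (helper826, for S3451)

* `Kill` : the number theoretic fact for `n = 64`;
* `psp3`, `oodd3`, `oplus3`, `ominus3` : the coverage bounds.
-/

set_option autoImplicit false

namespace Cfsg.Agent.H826.DP

open Cfsg Matrix Cfsg.Agent.H370.DP Cfsg.Agent.H72.AdjOrth

/-- every odd prime `p` with `ord_p(2) ≤ 64` has a prime divisor `r` of `p ^ 8 - 1`, `p ^ 12 - 1` or `p ^ 16 - 1` with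
`ord_r(2) > 64` -/
def Kill : Prop := ∀ p : ℕ, p.Prime → p ≠ 2 → orderOf (2 : ZMod p) ≤ 64 →
  ∃ r : ℕ, r.Prime ∧ 64 < orderOf (2 : ZMod r) ∧ (r ∣ p ^ 8 - 1 ∨ r ∣ p ^ 12 - 1 ∨ r ∣ p ^ 16 - 1)

theorem dvd_pow_sub_one {a r k f : ℕ} (h : r ∣ a ^ k - 1) : r ∣ (a ^ f) ^ k - 1 := by
  have h1 : a ^ k - 1 ∣ (a ^ k) ^ f - 1 ^ f := Nat.sub_dvd_pow_sub_pow _ _ _
  rw [one_pow, ← pow_mul, mul_comm k f, pow_mul] at h1
  exact h.trans h1

theorem not_dvd_of_dvd_pow_sub_one {a r k : ℕ} (hr : r.Prime) (ha : 1 ≤ a) (hk : k ≠ 0) (h : r ∣ a ^ k - 1) : ¬ r ∣ a := by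
  intro h1
  have h2 : r ∣ a ^ k := h1.trans (dvd_pow_self a hk)
  have h3 : r ∣ a ^ k - (a ^ k - 1) := Nat.dvd_sub h2 h
  have h4 : 1 ≤ a ^ k := Nat.one_le_pow _ _ ha
  rw [show a ^ k - (a ^ k - 1) = 1 by omega] at h3
  exact hr.one_lt.ne' (Nat.dvd_one.1 h3)

theorem Kill.apply (hK : Kill) {p q f : ℕ} (hp : p.Prime) (hp2 : p ≠ 2) (hq : q = p ^ f) (h : orderOf (2 : ZMod p) ≤ 64) :
    ∃ r : ℕ, r.Prime ∧ r ≠ 2 ∧ ¬ r ∣ q ∧ 64 < orderOf (2 : ZMod r) ∧ (ee q r ∣ 8 ∨ ee q r ∣ 12 ∨ ee q r ∣ 16) := by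
  obtain ⟨r, hr, h64, h1⟩ := hK p hp hp2 h
  have hq1 : 1 ≤ q := by rw [hq]; exact Nat.one_le_pow _ _ hp.pos
  have hr2 : r ≠ 2 := by
    rintro rfl
    have h2 : (2 : ZMod 2) = 0 := by decide
    rw [h2, orderOf_zero] at h64
    omega
  refine ⟨r, hr, hr2, ?_, h64, ?_⟩
  · intro h2
    rw [hq] at h2
    have h3 := hr.dvd_of_dvd_pow h2
    rcases h1 with h1 | h1 | h1 <;> exact not_dvd_of_dvd_pow_sub_one hr hp.one_le (by norm_num) h1 h3
  · rcases h1 with h1 | h1 | h1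
    · exact Or.inl (ee_dvd hq1 (hq ▸ dvd_pow_sub_one h1))
    · exact Or.inr (Or.inl (ee_dvd hq1 (hq ▸ dvd_pow_sub_one h1)))
    · exact Or.inr (Or.inr (ee_dvd hq1 (hq ▸ dvd_pow_sub_one h1)))

theorem eta_le_eight {k : ℕ} (h : k ∣ 8 ∨ k ∣ 12 ∨ k ∣ 16) : eta k ≤ 8 := by
  rcases h with h | h | h
  · exact (Cfsg.Agent.H72.AdjCoc.eta_le_of_dvd (i := 4) (by norm_num) h).trans (by norm_num)
  · exact (Cfsg.Agent.H72.AdjCoc.eta_le_of_dvd (i := 6) (by norm_num) h).trans (by norm_num)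
  · exact Cfsg.Agent.H72.AdjCoc.eta_le_of_dvd (i := 8) (by norm_num) h

variable {F : Type*} [Field F] [Fintype F] {c l : ℕ} {E : Finset ℕ}

theorem exists_char (hF : Odd (Fintype.card F)) : ∃ p f : ℕ, p.Prime ∧ p ≠ 2 ∧ Nat.card F = p ^ f ∧ f ≠ 0 ∧ CharP F p := by
  obtain ⟨p, hp⟩ := CharP.exists F
  obtain ⟨f, hpp, hf⟩ := FiniteField.card F p
  refine ⟨p, f, hpp, ?_, by rw [Nat.card_eq_fintype_card, hf], f.pos.ne', hp⟩
  rintro rfl
  rw [hf] at hF
  have h1 : Even (2 ^ (f : ℕ)) := (Nat.even_pow.2 ⟨even_two, f.pos.ne'⟩)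
  exact (Nat.not_even_iff_odd.2 hF) h1

/-- killing by `Bnd 64` -/
theorem kill_of {S : Type*} [Group S] [Finite S] (hK : Kill) (hF : Odd (Fintype.card F)) (hB : Bnd 64 S)
    (hp : ∀ p : ℕ, p.Prime → p ≠ 2 → CharP F p → p ∣ Nat.card S)
    (hg : ∀ r : ℕ, r.Prime → r ≠ 2 → ¬ r ∣ Nat.card F → 64 < orderOf (2 : ZMod r) →
      (ee (Nat.card F) r ∣ 8 ∨ ee (Nat.card F) r ∣ 12 ∨ ee (Nat.card F) r ∣ 16) → ∃ g : S, r ∣ orderOf g) : False := by
  obtain ⟨p, f, hpp, hp2, hq, -, hchar⟩ := exists_char hF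
  obtain ⟨r, hr, hr2, hrq, h64, h1⟩ := hK.apply hpp hp2 hq (hB p hpp hp2 (hp p hpp hp2 hchar))
  obtain ⟨g, hg⟩ := hg r hr hr2 hrq h64 h1
  have h2 := hB r hr hr2 (hg.trans (orderOf_dvd_natCard g))
  omega

theorem char_dvd_of {S : Type*} [Group S] {p : ℕ} (hp : p.Prime) (hp2 : p ≠ 2) [hc : CharP F p] {k e : ℕ}
    {X : ℕ} (hk : ∀ s : ℕ, s.Prime → s ∣ k → s = 2) (he : e ≠ 0) (h : k * Nat.card S = Nat.card F ^ e * X) :
    p ∣ Nat.card S := by
  have h1 : p ∣ Nat.card F := by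
    rw [Nat.card_eq_fintype_card, ← CharP.cast_eq_zero_iff F p]
    exact Nat.cast_card_eq_zero F
  have h2 : p ∣ k * Nat.card S := by
    rw [h]
    exact (h1.trans (dvd_pow_self _ he)).mul_right _
  rcases hp.dvd_mul.1 h2 with h3 | h3
  · exact absurd (hk p hp h3) hp2
  · exact h3

theorem gcd_four {s a : ℕ} (hs : s.Prime) (h : s ∣ Nat.gcd 4 a) : s = 2 := by
  have h1 : s ∣ 2 ^ 2 := h.trans (Nat.gcd_dvd_left _ _)
  exact (Nat.prime_dvd_prime_iff_eq hs Nat.prime_two).1 (hs.dvd_of_dvd_pow h1)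

/-- facts on the primes of `E` -/
theorem prime_facts {S : Type*} [Group S] (_ : l = 6 ∨ l = 7 ∨ l = 8)
    (hE : ∀ r ∈ E, r.Prime ∧ r ∣ Nat.card S ∧ 2 ^ l < 2 * orderOf (2 : ZMod r)) :
    ∀ r ∈ E, r.Prime ∧ r ≠ 2 ∧ r ∣ Nat.card S := by
  intro r hr
  obtain ⟨h1, h2, h3⟩ := hE r hr
  refine ⟨h1, ?_, h2⟩
  rintro rfl
  have h2 : (2 : ZMod 2) = 0 := by decide
  rw [h2, orderOf_zero] at h3
  simp at h3

/-- **Symplectic groups.** -/
theorem psp3 (hK : Kill) (hF : Odd (Fintype.card F)) {m : ℕ} (hm : 2 ≤ m) (hc : c = 1 ∨ c = 2 ∨ c = 3)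
    (hl : l = 6 ∨ l = 7 ∨ l = 8) (hB : Bnd (2 ^ l) (PSp m F)) (h2 : ¬ ∃ g : PSp m F, orderOf g = 2 ^ (l + 1))
    (hE : ∀ r ∈ E, r.Prime ∧ r ∣ Nat.card (PSp m F) ∧ 2 ^ l < 2 * orderOf (2 : ZMod r))
    (hP : Pr 3 c (PSp m F) E) : E.card + 13 ≤ 2 ^ (l - 1) + c := by
  obtain ⟨p, -, -, hp⟩ := Cfsg.Agent.H72.AdjCoc.prime_dvd_card F
  have hrank : m ≤ 2 ^ (l - 1) := by
    by_contra hlt
    exact h2 (Cfsg.Agent.H151.TwoPowElt.exists_quot (Cfsg.Agent.H64.CovCl.natCard_odd hF) (by omega) (by omega)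
      (Cfsg.Agent.H376.WordEmb.leviSp m) (Cfsg.Agent.H376.WordEmb.leviSp_injective m))
  have hcore := core3 (S := PSp m F) (q := Nat.card F) (M := m) hc hp (prime_facts hl hE) hP
    (fun T hT hs => Cfsg.Agent.H421.Joint.psp_joint (by omega) hT hs) ?_ ?_ ?_
  · refine numbers ?_ hcore
    rcases hl with rfl | rfl | rfl
    · left
      refine ⟨rfl, ?_⟩
      by_contra hlt
      refine kill_of (S := PSp m F) hK hF hB ?_ ?_
      · intro p hp hp2 hchar
        have h1 : Nat.card (Matrix.symplecticGroup (Fin m) F) =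
            Nat.gcd 2 (Fintype.card F - 1) * Nat.card (PSp m F) := by
          rw [← Cfsg.Agent.S0246.result (F := F) rfl m (by omega), mul_comm]
          exact Subgroup.card_eq_card_quotient_mul_card_subgroup _
        rw [Cfsg.Agent.S0245.result (F := F) rfl m, ← Nat.card_eq_fintype_card] at h1
        refine char_dvd_of (F := F) hp hp2 (S := PSp m F) (fun s hs h => ?_) (by positivity) h1.symm
        exact (Nat.prime_dvd_prime_iff_eq hs Nat.prime_two).1 (h.trans (Nat.gcd_dvd_left _ _))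
      · intro r hr hr2 hrq _ h1
        obtain ⟨g, hg⟩ := Cfsg.Agent.H421.Joint.psp_joint (F := F) (m := m) (T := {r}) (by omega)
          (fun x hx => by rw [Finset.mem_singleton.1 hx]; exact ⟨hr, hr2, hrq⟩)
          (by rw [Finset.image_singleton, Finset.sum_singleton]; exact (eta_le_eight h1).trans (by omega))
        exact ⟨g, hg r (Finset.mem_singleton_self _)⟩
    · right; left; exact ⟨rfl, by simpa using hrank⟩
    · right; right; exact ⟨rfl, by simpa using hrank⟩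
  · intro T hT e he
    refine Cfsg.Agent.H421.Joint.psp_joint (by omega) (fun r hr => ⟨(hT r hr).1, (hT r hr).2.1, (hT r hr).2.2.1⟩) ?_
    rcases T.eq_empty_or_nonempty with rfl | ⟨r, hr⟩
    · simp
    · have h1 : T.image (ee (Nat.card F)) ⊆ {e} := by
        intro x hx
        obtain ⟨s, hs, rfl⟩ := Finset.mem_image.1 hx
        rw [Finset.mem_singleton, he s hs]
      refine (Finset.sum_le_sum_of_subset h1).trans ?_
      rw [Finset.sum_singleton, ← he r hr]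
      exact Cfsg.Agent.H72.AdjCoc.sp_class (hT r hr).1 (hT r hr).2.2.1 (hT r hr).2.2.2
  · intro r hr hr2 hrq hd
    exact (Cfsg.Agent.H72.AdjCoc.sp_class hr hrq hd).trans (Nat.le_succ _)
  · intro r s hr hr2 hrq hs hs2 hsq hne h3 h4 hI
    have hJ2 : (Matrix.J (Fin m) F).det ≠ 0 := by
      have h5 := congrArg Matrix.det (Matrix.J_squared (Fin m) F)
      intro h6
      rw [Matrix.det_mul, h6, mul_zero] at h5
      rw [Matrix.det_neg, Matrix.det_one, mul_one] at h5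
      exact (pow_ne_zero _ (neg_ne_zero.2 one_ne_zero)) h5.symm
    refine pair_quot (H := Matrix.symplecticGroup (Fin m) F) (J := Matrix.J (Fin m) F) (Submonoid.subtype _)
      Subtype.val_injective hJ2 (fun h => SymplecticGroup.mem_iff'.1 h.2)
      (QuotientGroup.mk' (Subgroup.center (Matrix.symplecticGroup (Fin m) F)))
      (QuotientGroup.mk'_surjective _) hr hr2 hrq hs hs2 hsq hne ?_ ?_ hI
    · rw [Fintype.card_sum, Fintype.card_fin]; omega
    · rw [Fintype.card_sum, Fintype.card_fin]; omega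

/-- two primes in the orthogonal groups -/
theorem pair_orth {ι : Type} [Fintype ι] [DecidableEq ι] {Q : QuadraticForm F (ι → F)} {q : (ι → F) → F} (hq : ⇑Q = q)
    (hQ : Cfsg.Agent.LieClassical.OrthCore.Nondeg Q) {r s : ℕ}
    (hr : r.Prime) (hr2 : r ≠ 2) (hrq : ¬ r ∣ Nat.card F) (hs : s.Prime) (hs2 : s ≠ 2) (hsq : ¬ s ∣ Nat.card F)
    (hne : ee (Nat.card F) r ≠ ee (Nat.card F) s) (h1 : Fintype.card ι < 4 * eta (ee (Nat.card F) r))
    (h2 : Fintype.card ι < 4 * eta (ee (Nat.card F) s)) : ¬ Ind (POmega F q) {r, s} := by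
  intro hI
  refine pair_quot (H := ↥(Omega F q)) (J := gram Q) ((Units.coeHom (Matrix ι ι F)).comp ((isometryGroup F q).subtype.comp
    (Omega F q).subtype)) ?_ (gram_det hQ) (fun h => gram_isom hq (h : isometryGroup F q))
    (QuotientGroup.mk' (Subgroup.center ↥(Omega F q)))
    (QuotientGroup.mk'_surjective _) hr hr2 hrq hs hs2 hsq hne h1 h2 hI
  intro a b hab
  exact Subtype.ext (Subtype.ext (Units.ext hab))

/-- **Orthogonal groups of odd dimension.** -/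
theorem oodd3 (hK : Kill) (hF : Odd (Fintype.card F)) {m : ℕ} (hm : 3 ≤ m) (hc : c = 1 ∨ c = 2 ∨ c = 3)
    (hl : l = 6 ∨ l = 7 ∨ l = 8) (hB : Bnd (2 ^ l) (POmega F (quadFormOdd m F)))
    (h2 : ¬ ∃ g : POmega F (quadFormOdd m F), orderOf g = 2 ^ (l + 1))
    (hE : ∀ r ∈ E, r.Prime ∧ r ∣ Nat.card (POmega F (quadFormOdd m F)) ∧ 2 ^ l < 2 * orderOf (2 : ZMod r))
    (hP : Pr 3 c (POmega F (quadFormOdd m F)) E) : E.card + 13 ≤ 2 ^ (l - 1) + c := by
  obtain ⟨p, -, -, hp⟩ := Cfsg.Agent.H72.AdjCoc.prime_dvd_card F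
  have h2F : (2 : F) ≠ 0 := Cfsg.Agent.H151.TwoPowElt.two_ne_zero' (Cfsg.Agent.H64.CovCl.natCard_odd hF)
  have hrank : m ≤ 2 ^ (l - 1) := by
    by_contra hlt
    obtain ⟨φ, hφ⟩ := Cfsg.Agent.H376.WordEmb.sl_odd (F := F) m
    exact h2 (Cfsg.Agent.H151.TwoPowElt.exists_quot_comm (Cfsg.Agent.H64.CovCl.natCard_odd hF) (by omega) (by omega) φ hφ)
  have hcore := core3 (S := POmega F (quadFormOdd m F)) (q := Nat.card F) (M := m) hc hp (prime_facts hl hE) hP
    (fun T hT hs => Cfsg.Agent.H201.Joint.oodd_joint h2F hm hT hs) ?_ ?_ ?_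
  · refine numbers ?_ hcore
    rcases hl with rfl | rfl | rfl
    · left
      refine ⟨rfl, ?_⟩
      by_contra hlt
      refine kill_of (S := POmega F (quadFormOdd m F)) hK hF hB ?_ ?_
      · intro p hp hp2 hchar
        have h1 := Cfsg.Agent.S0292.result (F := F) rfl hF m hm
        rw [← Nat.card_eq_fintype_card] at h1
        refine char_dvd_of (F := F) hp hp2 (S := POmega F (quadFormOdd m F)) (fun s hs h => ?_) (by positivity) h1
        exact (Nat.prime_dvd_prime_iff_eq hs Nat.prime_two).1 h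
      · intro r hr hr2 hrq _ h1
        obtain ⟨g, hg⟩ := Cfsg.Agent.H201.Joint.oodd_joint (F := F) h2F hm (T := {r})
          (fun x hx => by rw [Finset.mem_singleton.1 hx]; exact ⟨hr, hr2, hrq⟩)
          (by rw [Finset.image_singleton, Finset.sum_singleton]; exact (eta_le_eight h1).trans (by omega))
        exact ⟨g, hg r (Finset.mem_singleton_self _)⟩
    · right; left; exact ⟨rfl, by simpa using hrank⟩
    · right; right; exact ⟨rfl, by simpa using hrank⟩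
  · intro T hT e he
    refine Cfsg.Agent.H201.Joint.oodd_joint h2F hm (fun r hr => ⟨(hT r hr).1, (hT r hr).2.1, (hT r hr).2.2.1⟩) ?_
    rcases T.eq_empty_or_nonempty with rfl | ⟨r, hr⟩
    · simp
    · have h1 : T.image (ee (Nat.card F)) ⊆ {e} := by
        intro x hx
        obtain ⟨s, hs, rfl⟩ := Finset.mem_image.1 hx
        rw [Finset.mem_singleton, he s hs]
      refine (Finset.sum_le_sum_of_subset h1).trans ?_
      rw [Finset.sum_singleton, ← he r hr]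
      exact Cfsg.Agent.H72.AdjCoc.odd_class h2F hm (hT r hr).1 (hT r hr).2.2.1 (hT r hr).2.2.2
  · intro r hr hr2 hrq hd
    exact (Cfsg.Agent.H72.AdjCoc.odd_class h2F hm hr hrq hd).trans (Nat.le_succ _)
  · intro r s hr hr2 hrq hs hs2 hsq hne h3 h4
    refine pair_orth (Cfsg.Agent.LieClassical.OrthForms.coe_oddForm m F)
      (Cfsg.Agent.LieClassical.OrthForms.nondeg_oddForm m F h2F) hr hr2 hrq hs hs2 hsq hne ?_ ?_
    · simp only [Fintype.card_sum, Fintype.card_fin, Fintype.card_unit]; omega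
    · simp only [Fintype.card_sum, Fintype.card_fin, Fintype.card_unit]; omega

end Cfsg.Agent.H826.DP
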