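import Cfsg.Agent.H826.DP.Def3
import Cfsg.Agent.H826.DP.RowsOrth
import Cfsg.Agent.H826.DP.RowsLin
import Cfsg.Agent.H826.DP.KillPf
import Cfsg.Agent.H797.Cov.AltSpor
import Cfsg.Agent.H183.BndTwo
import Cfsg.Agent.LieClassical.FieldTransfer

/-!
# S3451: assembly of the coverage rows (helper826)

`cov3` : `Cov3 F l` from the rows; the rows of the exceptional groups are a hypothesis `Exc3`.
-/

set_option autoImplicit false

universe u v

namespace Cfsg.Agent.H826.DP

open Subgroup Cfsg Cfsg.Agent.H370.DP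

theorem card_even_le {q : ℕ} : ((Finset.Ioc (2 * q) (4 * q)).filter fun i => Even i).card ≤ q := by
  classical
  have h1 : (Finset.Ioc (2 * q) (4 * q)).filter (fun i => Even i) ⊆ (Finset.Ioc q (2 * q)).image fun x => 2 * x := by
    intro i hi
    rw [Finset.mem_filter, Finset.mem_Ioc] at hi
    obtain ⟨j, hj⟩ := hi.2
    rw [Finset.mem_image]
    exact ⟨j, Finset.mem_Ioc.2 ⟨by omega, by omega⟩, by omega⟩
  refine (Finset.card_le_card h1).trans (Finset.card_image_le.trans ?_)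
  rw [Nat.card_Ioc]
  omega

theorem card_dvd_le {f q : ℕ} (hf : 2 ≤ f) : ((Finset.Ioc (2 * q) (4 * q)).filter fun i => f ∣ i).card ≤ q + 1 := by
  classical
  have h1 : (Finset.Ioc (2 * q) (4 * q)).filter (fun i => f ∣ i) ⊆ (Finset.Ioc (2 * q / f) (4 * q / f)).image fun x => f * x := by
    intro i hi
    rw [Finset.mem_filter, Finset.mem_Ioc] at hi
    obtain ⟨j, hj⟩ := hi.2
    rw [Finset.mem_image]
    refine ⟨j, Finset.mem_Ioc.2 ⟨?_, ?_⟩, hj.symm⟩
    · rw [Nat.div_lt_iff_lt_mul (by omega)]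
      have := mul_comm f j
      omega
    · rw [Nat.le_div_iff_mul_le (by omega)]
      have := mul_comm f j
      omega
  refine (Finset.card_le_card h1).trans (Finset.card_image_le.trans ?_)
  rw [Nat.card_Ioc]
  have h2 : 4 * q / f ≤ 2 * q / f + 2 * q / f + 1 := by
    have h3 : 4 * q = 2 * q + 2 * q := by ring
    rw [h3]
    have h4 := Nat.div_add_mod (2 * q) f
    have h5 := Nat.mod_lt (2 * q) (by omega : 0 < f)
    rw [← Nat.lt_succ_iff, Nat.div_lt_iff_lt_mul (by omega)]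
    nlinarith
  have h3 : 2 * q / f ≤ q := by
    refine Nat.div_le_of_le_mul ?_
    nlinarith
  omega

/-- the primes of `E`, through their indices -/
theorem card_le_index {E : Finset ℕ} (hinj : Set.InjOn (fun r => orderOf (2 : ZMod r)) (E : Set ℕ)) {I : Finset ℕ}
    (h : ∀ r ∈ E, orderOf (2 : ZMod r) ∈ I) : E.card ≤ I.card := by
  classical
  rw [← Finset.card_image_of_injOn hinj]
  apply Finset.card_le_card
  intro i hi
  obtain ⟨r, hr, rfl⟩ := Finset.mem_image.1 hi
  exact h r hr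

theorem bnd_of_dvd {n : ℕ} {X Y : Type*} [Group X] [Group Y] (h : Bnd n X)
    (hd : Nat.card Y ∣ Nat.card X) : Bnd n Y :=
  fun r hr h2 hrY => h r hr h2 (hrY.trans hd)

theorem two_pow_card {K : Type*} [Field K] [Fintype K] (h : ¬ Odd (Fintype.card K)) :
    ∃ f, 1 ≤ f ∧ Fintype.card K = 2 ^ f := by
  obtain ⟨p, hch⟩ := CharP.exists K
  obtain ⟨n, hp, hc⟩ := FiniteField.card K p
  refine ⟨n, n.2, ?_⟩
  rw [hc]
  congr 1
  rw [Nat.not_odd_iff_even, hc] at h
  have h1 : 2 ∣ p := Nat.prime_two.dvd_of_dvd_pow h.two_dvd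
  exact ((Nat.prime_dvd_prime_iff_eq Nat.prime_two hp).1 h1).symm

/-- the rows of the exceptional groups -/
def Exc3 (l : ℕ) : Prop := ∀ (S : Type u) [Group S] [Finite S], IsExceptionalLieType S → ¬ Lie.IsoTits S →
  (¬ ∀ a b : S, a * b = b * a) → Bnd (2 ^ l) S → (¬ ∃ g : S, orderOf g = 2 ^ (l + 1)) →
  ∀ (E : Finset ℕ) (c : ℕ),
    (∀ r ∈ E, r.Prime ∧ r ∣ Nat.card S ∧ 2 ^ l < 2 * orderOf (2 : ZMod r) ∧ orderOf (2 : ZMod r) ≤ 2 ^ l) →
    Set.InjOn (fun r => orderOf (2 : ZMod r)) (E : Set ℕ) → (c = 1 ∨ c = 2 ∨ c = 3) → Pr 3 c S E →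
    E.card + 13 ≤ 2 ^ (l - 1) + c

/-- **Coverage for `k = 3`.** -/
theorem cov3 {F : Type v} [Field F] [Fintype F] (hF : Fintype.card F = 2) {l : ℕ} (hl : l = 6 ∨ l = 7 ∨ l = 8)
    (hX : Exc3.{u} l) (hKn : ∀ (S : Type u) [Group S] [Finite S], IsSimpleGroup S → IsKnownSimple' S) :
    Cov3.{u} F l := by
  intro S _ _ hS hna hB h2 E c hE hinj hc hP
  have hK := KillPf.kill
  obtain ⟨q, hq, hq16⟩ : ∃ q, 2 ^ l = 4 * q ∧ 16 ≤ q := by
    rcases hl with rfl | rfl | rfl
    · exact ⟨16, by norm_num, le_rfl⟩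
    · exact ⟨32, by norm_num, by norm_num⟩
    · exact ⟨64, by norm_num, by norm_num⟩
  have hq2 : 2 ^ (l - 1) = 2 * q := by
    have h1 : 2 ^ l = 2 * 2 ^ (l - 1) := by
      rw [← pow_succ', Nat.sub_add_cancel (by omega)]
    omega
  have hc1 : 1 ≤ c := by omega
  have hr2 : ∀ r ∈ E, r ≠ 2 := by
    intro r hr h
    have h1 := (hE r hr).2.2.1
    rw [h, show (2 : ZMod 2) = 0 by decide, orderOf_zero] at h1
    omega
  have hmem : ∀ r ∈ E, orderOf (2 : ZMod r) ∈ Finset.Ioc (2 * q) (4 * q) := by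
    intro r hr
    have := hE r hr
    exact Finset.mem_Ioc.2 ⟨by omega, by omega⟩
  have hE' : ∀ {T : Type} [Group T] (e : S ≃* T), ∀ r ∈ E, r.Prime ∧ r ∣ Nat.card T ∧ 2 ^ l < 2 * orderOf (2 : ZMod r) := by
    intro T _ e r hr
    have h1 := hE r hr
    rw [← Nat.card_congr e.toEquiv]
    exact ⟨h1.1, h1.2.1, h1.2.2.1⟩
  have h2' : ∀ {T : Type} [Group T] (e : S ≃* T), ¬ ∃ g : T, orderOf g = 2 ^ (l + 1) := by
    rintro T _ e ⟨g, hg⟩
    exact h2 ⟨e.symm g, by rw [MulEquiv.orderOf_eq, hg]⟩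
  have hquart : E.card ≤ q + 2 → E.card + 13 ≤ 2 ^ (l - 1) + c := fun h => by omega
  have heven : (∀ r ∈ E, Even (orderOf (2 : ZMod r))) → E.card + 13 ≤ 2 ^ (l - 1) + c := by
    intro h
    have h1 := card_le_index hinj (I := (Finset.Ioc (2 * q) (4 * q)).filter fun i => Even i)
      (fun r hr => Finset.mem_filter.2 ⟨hmem r hr, h r hr⟩)
    have h3 := card_even_le (q := q)
    exact hquart (by omega)
  have hspor : (Lie.IsoTits S ∨ IsSporadicGroup S) → E.card + 13 ≤ 2 ^ (l - 1) + c := by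
    intro h
    have h1 := Cfsg.Agent.H797.Cov.spor h (n := 2 ^ l) (by omega) (E := E) (fun r hr => ⟨(hE r hr).1, (hE r hr).2.1⟩)
    omega
  rcases hKn S hS with h | h | h | h | h | h | h | h | h | h
  · -- cyclic of prime order
    exfalso
    have h' : (Nat.card S).Prime := h
    have := Fact.mk h'
    have hcyc : IsCyclic S := isCyclic_of_prime_card rfl
    exact hna fun a b => (IsCyclic.commGroup (α := S)).mul_comm a b
  · -- alternating
    right
    obtain ⟨m, hm5, ⟨e⟩⟩ := h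
    have h1 := Cfsg.Agent.H797.Cov.alt' e (n := 2 ^ l) (by
      rcases hl with rfl | rfl | rfl
      · exact Or.inl (by norm_num)
      · exact Or.inr (Or.inl (by norm_num))
      · exact Or.inr (Or.inr (by norm_num))) hB (E := E) (fun r hr => ⟨(hE r hr).1, (hE r hr).2.1⟩)
    omega
  · -- PSL
    obtain ⟨K, _, _, m, hm, -, ⟨e⟩⟩ := h
    by_cases hodd : Odd (Fintype.card K)
    · right
      exact psl3 hK hodd hm hc hl (bnd_of_dvd hB (by rw [Nat.card_congr e.toEquiv])) (h2' e) (hE' e) (hP.congr e)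
    · obtain ⟨f, hf, hKf⟩ := two_pow_card hodd
      by_cases hf1 : f = 1
      · left
        refine ⟨m, hm, ⟨e.trans (LieClassical.FieldTransfer.pslCongr (FiniteField.ringEquivOfCardEq ?_))⟩⟩
        rw [hKf, hf1, hF]
        norm_num
      · right
        have hBK : Bnd (2 ^ l) (Matrix.ProjectiveSpecialLinearGroup (Fin m) K) := bnd_of_dvd hB (by rw [Nat.card_congr e.toEquiv])
        have h1 := card_le_index hinj (I := (Finset.Ioc (2 * q) (4 * q)).filter fun i => f ∣ i)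
          (fun r hr => Finset.mem_filter.2 ⟨hmem r hr,
            Cfsg.Agent.H183.BndTwo.two_psl hKf (by omega) hm (by omega) hBK (hE r hr).2.2.1 (hE r hr).1
              (hr2 r hr) rfl (hE' e r hr).2.1⟩)
        have h3 := card_dvd_le (q := q) (f := f) (by omega)
        exact hquart (by omega)
  · -- PSp
    right
    obtain ⟨K, _, _, m, hm, -, ⟨e⟩⟩ := h
    by_cases hodd : Odd (Fintype.card K)
    · exact psp3 hK hodd hm hc hl (bnd_of_dvd hB (by rw [Nat.card_congr e.toEquiv])) (h2' e) (hE' e) (hP.congr e)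
    · obtain ⟨f, hf, hKf⟩ := two_pow_card hodd
      exact heven fun r hr => Cfsg.Agent.H183.BndTwo.two_psp hKf hm (by omega) (bnd_of_dvd hB (by rw [Nat.card_congr e.toEquiv]))
        (hE r hr).2.2.1 (hE r hr).1 (hr2 r hr) rfl (hE' e r hr).2.1
  · -- PSU
    right
    obtain ⟨K, _, _, m, p, hKp, hm, -, ⟨e⟩⟩ := h
    by_cases hodd : Odd p
    · exact psu3 hK hKp hodd hm hc hl (bnd_of_dvd hB (by rw [Nat.card_congr e.toEquiv])) (h2' e) (hE' e) (hP.congr e)
    · have hodd' : ¬ Odd (Fintype.card K) := by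
        rw [hKp, Nat.not_odd_iff_even]
        rw [Nat.even_pow]
        exact ⟨Nat.not_odd_iff_even.1 hodd, by norm_num⟩
      obtain ⟨f, hf, hKf⟩ := two_pow_card hodd'
      obtain ⟨a, -, ha⟩ : ∃ a ≤ f, p = 2 ^ a := (Nat.dvd_prime_pow Nat.prime_two).1 (by
        rw [← hKf, hKp, pow_two]
        exact dvd_mul_left p p)
      subst ha
      exact heven fun r hr => Cfsg.Agent.H183.BndTwo.two_psu hKp hm (by omega) (bnd_of_dvd hB (by rw [Nat.card_congr e.toEquiv]))
        (hE r hr).2.2.1 (hE r hr).1 (hr2 r hr) rfl (hE' e r hr).2.1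
  · -- POmegaOdd
    right
    obtain ⟨K, _, _, m, hm, hodd, ⟨e⟩⟩ := h
    exact oodd3 hK hodd hm hc hl (bnd_of_dvd hB (by rw [Nat.card_congr e.toEquiv])) (h2' e) (hE' e) (hP.congr e)
  · -- POmegaPlus
    right
    obtain ⟨K, _, _, m, hm, ⟨e⟩⟩ := h
    by_cases hodd : Odd (Fintype.card K)
    · exact oplus3 hK hodd hm hc hl (bnd_of_dvd hB (by rw [Nat.card_congr e.toEquiv])) (h2' e) (hE' e) (hP.congr e)
    · obtain ⟨f, hf, hKf⟩ := two_pow_card hodd
      have h1 := card_le_index hinj (I := insert (f * m) ((Finset.Ioc (2 * q) (4 * q)).filter fun i => Even i))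
        (fun r hr => by
          rw [Finset.mem_insert, Finset.mem_filter]
          rcases Cfsg.Agent.H183.BndTwo.two_oplus hKf hm (by omega) (bnd_of_dvd hB (by rw [Nat.card_congr e.toEquiv]))
            (hE r hr).2.2.1 (hE r hr).1 (hr2 r hr) rfl (hE' e r hr).2.1 with h | h
          · exact Or.inr ⟨hmem r hr, h⟩
          · exact Or.inl h)
      have h3 := card_even_le (q := q)
      have h4 := Finset.card_insert_le (f * m) ((Finset.Ioc (2 * q) (4 * q)).filter fun i => Even i)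
      exact hquart (by omega)
  · -- POmegaMinus
    right
    obtain ⟨K, _, _, m, a, b, hm, hab, ⟨e⟩⟩ := h
    by_cases hodd : Odd (Fintype.card K)
    · exact ominus3 hK hodd (by omega) hab hc hl (bnd_of_dvd hB (by rw [Nat.card_congr e.toEquiv])) (h2' e) (hE' e) (hP.congr e)
    · obtain ⟨f, hf, hKf⟩ := two_pow_card hodd
      exact heven fun r hr => Cfsg.Agent.H183.BndTwo.two_ominus hKf hm hab (by omega) (bnd_of_dvd hB (by rw [Nat.card_congr e.toEquiv]))
        (hE r hr).2.2.1 (hE r hr).1 (hr2 r hr) rfl (hE' e r hr).2.1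
  · -- exceptional
    right
    by_cases hT : Lie.IsoTits S
    · exact hspor (Or.inl hT)
    · exact hX S h hT hna hB h2 E c hE hinj hc hP
  · right
    exact hspor (Or.inr h)

end Cfsg.Agent.H826.DP
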