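import Cfsg.Agent.H826.DP.Full
import Cfsg.Agent.H826.DP.Cov3
import Cfsg.Agent.H797.Cov.Top3

/-!
# S3451: the structure of the top for `l = 6, 7, 8` (helper826)
-/

set_option autoImplicit false

universe u v

namespace Cfsg.Agent.H826.DP

open Subgroup Cfsg Cfsg.Agent.H369.Socle Cfsg.Agent.H370.DP

/-- **The structure of the top**, `k = 3`, `n = 64, 128, 256`. -/
theorem htop {F : Type v} [Field F] [Fintype F] (hF : Fintype.card F = 2) {l : ℕ} (hl : l = 6 ∨ l = 7 ∨ l = 8)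
    (hX : Exc3.{u} l) (hKn : ∀ (S : Type u) [Group S] [Finite S], IsSimpleGroup S → IsKnownSimple' S)
    (hSch : Cfsg.Agent.H797.Cov.Schr.{u}) {G : Type u} [Group G] [Finite G]
    (h : Set.range (orderOf : G → ℕ) = Set.range (orderOf : (Fin 3 → PL F (2 ^ l)) → ℕ)) :
    ∃ (R : Subgroup G) (_ : R.Normal) (𝓐 : Set (Subgroup (G ⧸ R))), TopD F l 3 (2 ^ l - 2) G R 𝓐 (RR (2 ^ l)) := by
  have hn14 : 14 ≤ 2 ^ l := by rcases hl with rfl | rfl | rfl <;> norm_num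
  have hP : Pr 3 3 G (RR (2 ^ l)) :=
    (pr_pow hF hn14).of_iff (fun T _ => (ind_iff h T).2) (fun T _ => (ind_iff h T).1)
  obtain ⟨R, hR, 𝓐, E, hs, hN, hA, hinv, hcard, hER, hbig, hD, hiso⟩ :=
    Cfsg.Agent.H797.Cov.top3 hF hl (cov3 hF hl hX hKn) hSch (G := G)
      (by
        intro r hr h2 hrG
        exact bnd_pow hF (k := 3) _ r hr h2 ((dvd_card_iff h hr).1 hrG))
      (by
        rintro ⟨g, hg⟩
        exact two_pow_pow hF ((exists_iff h _).1 ⟨g, by rw [hg]⟩)) hP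
  refine ⟨R, hR, 𝓐, full hF hl hP hs hN hA hinv hcard hER hbig (fun r hr hrR => hD r hr (DD.of_normal hs hrR)) ?_⟩
  intro S hS
  obtain ⟨m, h1, h2, B, -, h3, h4⟩ := hiso S hS
  exact ⟨m, h1, h2, B, h3, fun r hr hrB => h4 r (Finset.mem_sdiff.2 ⟨hr, hrB⟩)⟩

end Cfsg.Agent.H826.DP
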