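import Cfsg.Agent.H370.DP.Part1

/-!
# S3451: from the primes of `E` to all primes of large index (helper826)

`full` : the structure of the top for a set `E` containing all but at most 9 of the primes `RR n` implies the one for
`RR n` itself.
-/

set_option autoImplicit false

universe u v

namespace Cfsg.Agent.H826.DP

open Subgroup Cfsg Cfsg.Agent.H369.Socle Cfsg.Agent.H370.DP
open Cfsg.Agent.H188.Fac.PLTwo (dvd_card)

/-! ### counting -/

/-- many odd indices of primes of `E` -/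
theorem exists_odd {q n m : ℕ} (hq : n = 4 * q) (hq16 : 16 ≤ q) {E : Finset ℕ}
    (hbig : (RR n \ E).card ≤ 9) (hmn : m ≤ n) {B : Finset ℕ} (hB : B.card ≤ 2)
    (hEB : ∀ r ∈ E, r ∉ B → orderOf (2 : ZMod r) ≤ m) :
    n ≤ m + 11 ∧ ∃ I : Finset ℕ, I.card = 3 ∧ ∀ i ∈ I, Odd i ∧ n < 2 * i ∧ i + 1 ≤ m ∧ i ≤ n ∧ P i ∈ E := by
  classical
  have hmge : n ≤ m + 11 := by
    -- the primes of index `> m` (and `> n / 2`)
    have h1 : (Finset.Ioc (max m (n / 2)) n).image P ⊆ (RR n \ E) ∪ B := by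
      intro r hr
      obtain ⟨i, hi, rfl⟩ := Finset.mem_image.1 hr
      rw [Finset.mem_Ioc, max_lt_iff] at hi
      rw [Finset.mem_union, Finset.mem_sdiff]
      by_cases hE : P i ∈ E
      · right
        by_contra hnB
        have h2 := hEB _ hE hnB
        rw [P_ord (by omega)] at h2
        omega
      · exact Or.inl ⟨mem_RR.2 ⟨i, hi.1.2, hi.2, rfl⟩, hE⟩
    have h2 := (Finset.card_le_card h1).trans (Finset.card_union_le _ _)
    rw [Finset.card_image_of_injOn (by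
      intro i hi j hj h
      rw [Finset.mem_coe, Finset.mem_Ioc, max_lt_iff] at hi hj
      exact P_inj (by omega) (by omega) h), Nat.card_Ioc] at h2
    rcases le_total m (n / 2) with h3 | h3
    · rw [max_eq_right h3] at h2
      omega
    · rw [max_eq_left h3] at h2
      omega
  -- the odd indices
  have hcard : ((Finset.range ((m - 2 * q) / 2)).image fun x => 2 * q + 2 * x + 1).card = (m - 2 * q) / 2 := by
    rw [Finset.card_image_of_injective _ (fun a b h => by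
      have h' : 2 * q + 2 * a + 1 = 2 * q + 2 * b + 1 := h
      omega), Finset.card_range]
  obtain ⟨O, hO⟩ : ∃ O, O = (Finset.range ((m - 2 * q) / 2)).image fun x => 2 * q + 2 * x + 1 := ⟨_, rfl⟩
  rw [← hO] at hcard
  have hOm : ∀ i ∈ O, Odd i ∧ n < 2 * i ∧ i + 1 ≤ m := by
    intro i hi
    rw [hO, Finset.mem_image] at hi
    obtain ⟨x, hx, rfl⟩ := hi
    rw [Finset.mem_range] at hx
    exact ⟨⟨q + x, by ring⟩, by omega, by omega⟩
  have h1 : (O.filter fun i => P i ∉ E).image P ∪ (Finset.Ioc m n).image P ⊆ (RR n \ E) ∪ B := by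
    intro r hr
    rcases Finset.mem_union.1 hr with hr | hr
    · obtain ⟨i, hi, rfl⟩ := Finset.mem_image.1 hr
      rw [Finset.mem_filter] at hi
      have h2 := hOm i hi.1
      rw [Finset.mem_union, Finset.mem_sdiff]
      exact Or.inl ⟨mem_RR.2 ⟨i, by omega, by omega, rfl⟩, hi.2⟩
    · obtain ⟨i, hi, rfl⟩ := Finset.mem_image.1 hr
      rw [Finset.mem_Ioc] at hi
      rw [Finset.mem_union, Finset.mem_sdiff]
      by_cases hE : P i ∈ E
      · right
        by_contra hnB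
        have h2 := hEB _ hE hnB
        rw [P_ord (by omega)] at h2
        omega
      · exact Or.inl ⟨mem_RR.2 ⟨i, by omega, hi.2, rfl⟩, hE⟩
  have h2 := (Finset.card_le_card h1).trans (Finset.card_union_le _ _)
  rw [← Finset.image_union, Finset.card_image_of_injOn (by
      intro i hi j hj h
      have h3 : ∀ x ∈ (((O.filter fun i => P i ∉ E) ∪ Finset.Ioc m n : Finset ℕ) : Set ℕ), 7 ≤ x := by
        intro x hx
        rw [Finset.mem_coe, Finset.mem_union, Finset.mem_filter, Finset.mem_Ioc] at hx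
        rcases hx with hx | hx
        · have := hOm x hx.1
          omega
        · omega
      exact P_inj (h3 i hi) (h3 j hj) h), Finset.card_union_of_disjoint (by
      rw [Finset.disjoint_left]
      intro i hi hi'
      rw [Finset.mem_filter] at hi
      rw [Finset.mem_Ioc] at hi'
      have := hOm i hi.1
      omega), Nat.card_Ioc] at h2
  have h3 := Finset.card_filter_add_card_filter_not (s := O) (fun i => P i ∈ E)
  obtain ⟨I, hI, hI3⟩ := Finset.exists_subset_card_eq (s := O.filter fun i => P i ∈ E) (n := 3) (by omega)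
  refine ⟨hmge, I, hI3, fun i hi => ?_⟩
  have h4 := Finset.mem_filter.1 (hI hi)
  have h5 := hOm i h4.1
  exact ⟨h5.1, h5.2.1, h5.2.2, by omega, h4.2⟩

/-! ### the radical -/

/-- a prime divisor of the order of the radical is independent of suitable primes of the components -/
theorem ind_rad {F : Type v} [Field F] [Fintype F] (hF : Fintype.card F = 2) {l k m₀ : ℕ} {Ω : Finset ℕ} (hk : k ≠ 0)
    {G : Type u} [Group G] [Finite G] {R : Subgroup G} [hRn : R.Normal] {𝓐 : Set (Subgroup (G ⧸ R))}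
    (D : TopD F l k m₀ G R 𝓐 Ω) {r : ℕ} (hr : r.Prime) (hr2 : r ≠ 2) (hrR : r ∣ Nat.card R)
    {I : Finset ℕ} (hIk : I.card = k) (hI : ∀ i ∈ I, Odd i ∧ 7 ≤ i ∧ i + 1 ≤ m₀ ∧ P i ∈ Ω) :
    Ind G (insert r (I.image P)) := by
  classical
  have hk0 : NeZero k := ⟨hk⟩
  -- the chief factor
  obtain ⟨A, hAn, V, hAR, hVn, hVR, hV1, hVc, hVr⟩ := Cfsg.Agent.H195.Misc.exists_chief D.solv hr hrR
  let f : G ⧸ A →* G ⧸ R := QuotientGroup.map A R (MonoidHom.id G) (by simpa using hAR)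
  have hf : Function.Surjective f := by
    intro y
    obtain ⟨g, rfl⟩ := QuotientGroup.mk'_surjective R y
    exact ⟨QuotientGroup.mk' A g, rfl⟩
  have hker : f.ker = R.map (QuotientGroup.mk' A) := by
    ext x
    obtain ⟨g, rfl⟩ := QuotientGroup.mk'_surjective A x
    have h1 : f (QuotientGroup.mk' A g) = QuotientGroup.mk' R g := rfl
    rw [MonoidHom.mem_ker, h1]
    constructor
    · intro h2
      exact ⟨g, (QuotientGroup.eq_one_iff (N := R) g).1 h2, rfl⟩
    · rintro ⟨g', hg', h2⟩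
      have h3 : QuotientGroup.mk' R g' = QuotientGroup.mk' R g := congrArg f h2
      rw [← h3]
      exact (QuotientGroup.eq_one_iff (N := R) g').2 hg'
  have hkers : Group.IsSolvable f.ker := by
    rw [hker]
    have := D.solv
    exact Group.isSolvable_of_surjective (MonoidHom.subgroupMap_surjective (QuotientGroup.mk' A) R)
  have hkerc : Nat.card f.ker ∣ Nat.card R := by
    rw [hker]
    exact Subgroup.card_map_dvd _ _
  -- enumerations
  let eI : Fin k ≃ I := (Fintype.equivFinOfCardEq (by rw [Fintype.card_coe, hIk])).symm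
  have hfin : Finite 𝓐 := inferInstance
  let eA : Fin k ≃ 𝓐 := (Finite.equivFinOfCardEq (by rw [Nat.card_coe_set_eq, D.card])).symm
  have hex : ∀ j : Fin k, ∃ (Q : Subgroup (G ⧸ R)) (y : G ⧸ R), Q ≤ (eA j : Subgroup (G ⧸ R)) ∧ IsPGroup 2 Q ∧
      y ∈ (eA j : Subgroup (G ⧸ R)) ∧ orderOf y = P (eI j) ∧ (∀ q ∈ Q, y * q * y⁻¹ ∈ Q) ∧ ∃ q ∈ Q, y * q ≠ q * y := by
    intro j
    obtain ⟨m, h1, h2, ⟨e⟩⟩ := D.iso _ (eA j).2
    have h3 := hI _ (eI j).2
    obtain ⟨Q, y, hQ, hy, hyQ, q, hq, hqy⟩ := exists_act hF (m := m) (i := (eI j : ℕ)) h3.2.1 (by omega)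
    let ψ : PL F m →* G ⧸ R := ((eA j : Subgroup (G ⧸ R)).subtype).comp e.symm.toMonoidHom
    have hψ : Function.Injective ψ := (eA j : Subgroup (G ⧸ R)).subtype_injective.comp e.symm.injective
    have hψm : ∀ z, ψ z ∈ (eA j : Subgroup (G ⧸ R)) := fun z => (e.symm z).2
    refine ⟨Q.map ψ, ψ y, ?_, hQ.map ψ, hψm y, ?_, ?_, ψ q, ⟨q, hq, rfl⟩, ?_⟩
    · rintro _ ⟨z, -, rfl⟩
      exact hψm z
    · rw [orderOf_injective ψ hψ, hy]
    · rintro _ ⟨z, hz, rfl⟩
      exact ⟨y * z * y⁻¹, hyQ z hz, by rw [map_mul, map_mul, map_inv]⟩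
    · intro hc
      apply hqy
      apply hψ
      rw [map_mul, map_mul, hc]
  choose Q' y hQS hQ hyS hyo hyQ hqy using hex
  let instV : CommGroup V := { (inferInstance : Group V) with mul_comm := fun a b => Subtype.ext (hVc a a.2 b b.2) }
  have hVnt : Nontrivial V := (Subgroup.nontrivial_iff_ne_bot V).2 hV1
  obtain ⟨x, hxc, hxS, v, hv1, hxv⟩ := Cfsg.Agent.H896.DP.fix_all (k := k) (X := G ⧸ A) (V := V) (Z := G ⧸ R)
    (MulAut.conjNormal (H := V)) hr hr2 (fun v => Subtype.ext (hVr v v.2)) f hkers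
    (fun j => (eA j : Subgroup (G ⧸ R))) (fun j => isSimple D.nosol (D.comp _ (eA j).2))
    (fun i j hij a ha b hb => D.comm _ (eA i).2 _ (eA j).2 (fun h => hij (eA.injective (Subtype.ext h))) a ha b hb)
    (fun j z _ => hf z) (fun j => P (eI j)) (fun j => P_prime (hI _ (eI j).2).2.1)
    (fun j => by rw [P_ord (hI _ (eI j).2).2.1]; exact (hI _ (eI j).2).1)
    (fun j h1 => D.rad _ (hI _ (eI j).2).2.2.2 (h1.trans hkerc)) Q' hQS hQ y hyS hyo hyQ hqy
  have hpinj : Function.Injective fun j : Fin k => P (eI j) := by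
    intro i j hij
    exact eI.injective (Subtype.ext (P_inj (hI _ (eI i).2).2.1 (hI _ (eI j).2).2.1 hij))
  obtain ⟨g, hg, hgc⟩ := exists_prod_order' (fun j : Fin k => P (eI j)) (fun j => P_prime (hI _ (eI j).2).2.1)
    hpinj x (fun j => (hxS j).2) hxc
  have hvg : Commute (v : G ⧸ A) g := by
    apply hgc
    intro j
    have h1 := congrArg (fun w : V => (w : G ⧸ A)) (hxv j)
    have h2 : x j * (v : G ⧸ A) * (x j)⁻¹ = v := h1
    rw [mul_inv_eq_iff_eq_mul] at h2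
    exact h2.symm
  have hvo : orderOf (v : G ⧸ A) = r := by
    have := Fact.mk hr
    refine orderOf_eq_prime (hVr v v.2) fun h1 => hv1 (Subtype.ext h1)
  have hT : (Finset.univ.image fun j : Fin k => P (eI j)) = I.image P := by
    ext s
    simp only [Finset.mem_image, Finset.mem_univ, true_and]
    constructor
    · rintro ⟨j, rfl⟩
      exact ⟨_, (eI j).2, rfl⟩
    · rintro ⟨i, hi, rfl⟩
      exact ⟨eI.symm ⟨i, hi⟩, by rw [eI.apply_symm_apply]⟩
  refine Ind.of_surjective (QuotientGroup.mk' A) (QuotientGroup.mk'_surjective A) ⟨(v : G ⧸ A) * g, ?_⟩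
  have h4 : (orderOf (v : G ⧸ A)).Coprime (orderOf g) := by
    rw [hvo, hg, hT]
    refine Nat.Coprime.prod_right fun b hb => ?_
    obtain ⟨i, hi, rfl⟩ := Finset.mem_image.1 hb
    rw [Nat.coprime_primes hr (P_prime (hI i hi).2.1)]
    rintro rfl
    exact D.rad _ (hI i hi).2.2.2 hrR
  intro s hs
  rw [hvg.orderOf_mul_eq_mul_orderOf_of_coprime h4, hvo, hg, hT]
  rcases Finset.mem_insert.1 hs with rfl | hs
  · exact dvd_mul_right _ _
  · exact (Finset.dvd_prod_of_mem (fun b => b) hs).mul_left _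

/-! ### all members get a prime -/

theorem sSup_surj {X : Type*} [Group X] [Finite X] {𝓐 : Set (Subgroup X)}
    (hcomm : ∀ C ∈ 𝓐, ∀ D ∈ 𝓐, C ≠ D → ∀ x ∈ C, ∀ y ∈ D, x * y = y * x) {T : Finset ℕ}
    (hT : ∀ r ∈ T, r.Prime) (h : ∀ C ∈ 𝓐, ∀ T' ⊆ T, Ind C T' → T'.card ≤ 1) (hcard : 𝓐.ncard ≤ T.card)
    (hI : Ind (sSup 𝓐 : Subgroup X) T) : ∀ C ∈ 𝓐, ∃ r ∈ T, r ∣ Nat.card C := by
  classical
  have : Fintype 𝓐 := Fintype.ofFinite 𝓐
  have hc : Pairwise fun C D : 𝓐 => ∀ x y : X, x ∈ (C : Subgroup X) → y ∈ (D : Subgroup X) → Commute x y :=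
    fun C D hne x y hx hy => hcomm C C.2 D D.2 (fun h => hne (Subtype.ext h)) x hx y hy
  have h1 := Subgroup.noncommPiCoprod_range (hcomm := hc)
  rw [← sSup_eq_iSup'] at h1
  have h2 : Ind (Subgroup.noncommPiCoprod hc).range T := by
    obtain ⟨g, hg⟩ := hI
    refine ⟨⟨g, by rw [h1]; exact g.2⟩, fun r hr => ?_⟩
    rw [Subgroup.orderOf_mk, Subgroup.orderOf_coe]
    exact hg r hr
  obtain ⟨g, hg⟩ := h2.of_surjective (Subgroup.noncommPiCoprod hc).rangeRestrict (MonoidHom.rangeRestrict_surjective _)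
  have h3 : ∀ r : T, ∃ C : 𝓐, (r : ℕ) ∣ orderOf (g C) := by
    intro r
    have h2 : orderOf g ∣ ∏ i, orderOf (g i) := by
      rw [orderOf_dvd_iff_pow_eq_one]
      funext i
      rw [Pi.pow_apply, Pi.one_apply, ← orderOf_dvd_iff_pow_eq_one]
      exact Finset.dvd_prod_of_mem _ (Finset.mem_univ i)
    obtain ⟨i, -, hi⟩ := ((hT r r.2).prime.dvd_finsetProd_iff _).1 ((hg r r.2).trans h2)
    exact ⟨i, hi⟩
  choose α hα using h3
  have hinj : Function.Injective α := by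
    intro r s hrs
    by_contra hne
    have hne' : (r : ℕ) ≠ s := fun h => hne (Subtype.ext h)
    have h4 := h (α r) (α r).2 {(r : ℕ), (s : ℕ)} (by
      intro x hx
      rcases Finset.mem_insert.1 hx with rfl | hx
      · exact r.2
      · rw [Finset.mem_singleton.1 hx]
        exact s.2) ⟨g (α r), fun x hx => by
      rcases Finset.mem_insert.1 hx with rfl | hx
      · exact hα r
      · rw [Finset.mem_singleton.1 hx, hrs]
        exact hα s⟩
    rw [Finset.card_pair hne'] at h4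
    omega
  have hcard' : Fintype.card 𝓐 ≤ Fintype.card T := by
    rw [← Nat.card_eq_fintype_card, Nat.card_coe_set_eq, Fintype.card_coe]
    exact hcard
  have hbij : Function.Bijective α := (Fintype.bijective_iff_injective_and_card α).2
    ⟨hinj, le_antisymm (Fintype.card_le_of_injective α hinj) hcard'⟩
  intro C hC
  obtain ⟨r, hr⟩ := hbij.2 ⟨C, hC⟩
  refine ⟨r, r.2, ?_⟩
  have h4 := (hα r).trans (orderOf_dvd_natCard (g (α r)))
  rwa [hr] at h4

/-! ### squares of automorphisms -/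

theorem out_sq' {F : Type v} [Field F] [Fintype F] (hF : Fintype.card F = 2) {X : Type u} [Group X] {C : Subgroup X} {m : ℕ}
    (hm : 3 ≤ m) (e : C ≃* PL F m) (α : MulAut C) : ∃ g : C, α * α = MulAut.conj g := by
  obtain ⟨g, hg⟩ := Cfsg.Agent.H211.DP.OutSq.out_sq hF hm (MulAut.congr e α)
  refine ⟨e.symm g, ?_⟩
  apply (MulAut.congr e).injective
  rw [map_mul, hg]
  ext x
  change g * x * g⁻¹ = e (MulAut.conj (e.symm g) (e.symm x))
  rw [MulAut.conj_apply, map_mul, map_mul, map_inv, e.apply_symm_apply, e.apply_symm_apply]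

/-! ### the main theorem -/

/-- **All primes of `RR`.** -/
theorem full {F : Type v} [Field F] [Fintype F] (hF : Fintype.card F = 2) {l : ℕ} (hl : l = 6 ∨ l = 7 ∨ l = 8)
    {G : Type u} [Group G] [Finite G] (hP : Pr 3 3 G (RR (2 ^ l))) {R : Subgroup G} [hRn : R.Normal]
    {𝓐 : Set (Subgroup (G ⧸ R))} {E : Finset ℕ} (hs : Group.IsSolvable R) (hN : NoSol (G ⧸ R))
    (hA : ∀ C ∈ 𝓐, IsComponent C) (hinv : ∀ C ∈ 𝓐, ∀ h : G ⧸ R, cj h C ∈ 𝓐) (hcard : 𝓐.ncard = 3)
    (hER : E ⊆ RR (2 ^ l)) (hbig : (RR (2 ^ l) \ E).card ≤ 9) (hrad : ∀ r ∈ E, ¬ r ∣ Nat.card R)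
    (hiso : ∀ S ∈ 𝓐, ∃ m, m ≤ 2 ^ l ∧ Nonempty (S ≃* PL F m) ∧ ∃ B : Finset ℕ, B.card ≤ 2 ∧ ∀ r ∈ E, r ∉ B → r ∣ Nat.card S) :
    TopD F l 3 (2 ^ l - 2) G R 𝓐 (RR (2 ^ l)) := by
  classical
  obtain ⟨q, hq, hq16⟩ : ∃ q, 2 ^ l = 4 * q ∧ 16 ≤ q := by
    rcases hl with rfl | rfl | rfl
    · exact ⟨16, by norm_num, le_rfl⟩
    · exact ⟨32, by norm_num, by norm_num⟩
    · exact ⟨64, by norm_num, by norm_num⟩
  have hBR : Big (2 ^ l) (RR (2 ^ l)) := big_RR (by omega)
  have hRprime := hBR.prime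
  have hR2 : ∀ r ∈ RR (2 ^ l), r ≠ 2 := by
    intro r hr
    obtain ⟨i, h1, h2, rfl⟩ := mem_RR.1 hr
    exact P_ne_two (by omega)
  -- the least degree
  obtain ⟨S₁, hS₁⟩ : 𝓐.Nonempty := by
    rw [← Set.ncard_pos (Set.toFinite _)]
    omega
  have hex : ∃ m, ∃ S ∈ 𝓐, m ≤ 2 ^ l ∧ Nonempty (S ≃* PL F m) ∧ ∃ B : Finset ℕ, B.card ≤ 2 ∧ ∀ r ∈ E, r ∉ B → r ∣ Nat.card S := by
    obtain ⟨m, h1, h2, h3⟩ := hiso S₁ hS₁
    exact ⟨m, S₁, hS₁, h1, h2, h3⟩
  obtain ⟨S₀, hS₀, hm₀, ⟨e₀⟩, B₀, hB₀, hEB₀⟩ := Nat.find_spec hex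
  have hmin : ∀ S ∈ 𝓐, ∃ m, Nat.find hex ≤ m ∧ m ≤ 2 ^ l ∧ Nonempty (S ≃* PL F m) := by
    intro S hS
    obtain ⟨m, h1, h2, h3⟩ := hiso S hS
    exact ⟨m, Nat.find_min' hex ⟨S, hS, h1, h2, h3⟩, h1, h2⟩
  obtain ⟨m₀, hm₀'⟩ : ∃ m₀, m₀ = Nat.find hex := ⟨_, rfl⟩
  rw [← hm₀'] at hm₀ e₀ hmin
  have D : TopD F l 3 m₀ G R 𝓐 E := ⟨hs, hN, hA, hinv, hcard, hmin, hrad⟩
  obtain ⟨hm₀11, I, hI3, hI⟩ := exists_odd hq hq16 hbig hm₀ hB₀ (fun r hr hrB => by
    have h1 := hEB₀ r hr hrB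
    rwa [Nat.card_congr e₀.toEquiv, dvd_card hF (hRprime r (hER hr)) (hR2 r (hER hr))] at h1)
  -- the radical
  have hradR : ∀ r ∈ RR (2 ^ l), ¬ r ∣ Nat.card R := by
    intro r hr hrR
    have h1 := ind_rad hF (by norm_num) D (hRprime r hr) (hR2 r hr) hrR hI3
      (fun i hi => ⟨(hI i hi).1, by have := (hI i hi).2.1; omega, (hI i hi).2.2.1, (hI i hi).2.2.2.2⟩)
    have h2 := hP.1 _ (by
      intro x hx
      rcases Finset.mem_insert.1 hx with rfl | hx
      · exact hr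
      · obtain ⟨i, hi, rfl⟩ := Finset.mem_image.1 hx
        exact hER (hI i hi).2.2.2.2) h1
    rw [Finset.card_insert_of_notMem (fun hx => by
      obtain ⟨i, hi, rfl⟩ := Finset.mem_image.1 hx
      exact hrad _ (hI i hi).2.2.2.2 hrR), Finset.card_image_of_injOn (fun i hi j hj h =>
      P_inj (by have := (hI i hi).2.1; omega) (by have := (hI j hj).2.1; omega) h), hI3] at h2
    omega
  -- the centralizer
  have hcen : ∀ r ∈ RR (2 ^ l), ¬ r ∣ Nat.card (centralizer ((sSup 𝓐 : Subgroup (G ⧸ R)) : Set (G ⧸ R))) := by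
    intro r hr hrC
    obtain ⟨J, hJ, hJ3⟩ := Finset.exists_subset_card_eq
      (s := (Finset.Ioc (2 * q) m₀).erase (orderOf (2 : ZMod r))) (n := 3) (by
        have h1 := Finset.pred_card_le_card_erase (s := Finset.Ioc (2 * q) m₀) (a := orderOf (2 : ZMod r))
        rw [Nat.card_Ioc] at h1
        omega)
    have hJm : ∀ i ∈ J, 2 * q < i ∧ i ≤ m₀ ∧ i ≠ orderOf (2 : ZMod r) := by
      intro i hi
      have h1 := Finset.mem_erase.1 (hJ hi)
      have h2 := Finset.mem_Ioc.1 h1.2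
      exact ⟨h2.1, h2.2, h1.1⟩
    have h1 : Ind (sSup 𝓐 : Subgroup (G ⧸ R)) (J.image P) := D.ind hF hJ3 (fun i hi => by have := hJm i hi; omega)
      (fun i hi => (hJm i hi).2.1)
    have h2 := ind_of_prod (center_sSup hN hA) h1 (ind_singleton (hRprime r hr) hrC)
    have h3 : Ind G (insert r (J.image P)) := by
      refine Ind.of_surjective (QuotientGroup.mk' R) (QuotientGroup.mk'_surjective R) (h2.mono ?_)
      intro s hs
      rw [Finset.mem_insert] at hs
      rw [Finset.mem_union, Finset.mem_singleton]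
      tauto
    have h4 := hP.1 _ (by
      intro x hx
      rcases Finset.mem_insert.1 hx with rfl | hx
      · exact hr
      · obtain ⟨i, hi, rfl⟩ := Finset.mem_image.1 hx
        have := hJm i hi
        exact mem_RR.2 ⟨i, by omega, by omega, rfl⟩) h3
    rw [Finset.card_insert_of_notMem (fun hx => by
      obtain ⟨i, hi, h5⟩ := Finset.mem_image.1 hx
      have h6 := hJm i hi
      rw [← h5, P_ord (by omega)] at h6
      exact h6.2.2 rfl), Finset.card_image_of_injOn (fun i hi j hj h =>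
      P_inj (by have := hJm i hi; omega) (by have := hJm j hj; omega) h), hJ3] at h4
    omega
  -- the index of `M C`
  have hidx : ∀ r ∈ RR (2 ^ l), ¬ r ∣ (sSup 𝓐 ⊔ centralizer ((sSup 𝓐 : Subgroup (G ⧸ R)) : Set (G ⧸ R))).index := by
    intro r hr
    refine not_dvd_index_of_out hA hinv (fun C hC α => ?_) (hRprime r hr) (hR2 r hr) (by
      rw [hcard]
      have := hBR.lt hr
      omega)
    obtain ⟨m, h1, h2, ⟨e⟩⟩ := hmin C hC
    exact out_sq' hF (by omega) e α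
  -- the three largest indices
  obtain ⟨T, hT⟩ : ∃ T : Finset ℕ, T = (Finset.Ioc (2 ^ l - 3) (2 ^ l)).image P := ⟨_, rfl⟩
  have hTR : T ⊆ RR (2 ^ l) := by
    intro r hr
    rw [hT, Finset.mem_image] at hr
    obtain ⟨i, hi, rfl⟩ := hr
    rw [Finset.mem_Ioc] at hi
    exact mem_RR.2 ⟨i, by omega, hi.2, rfl⟩
  have hT3 : T.card = 3 := by
    rw [hT, Finset.card_image_of_injOn (fun i hi j hj h => ?_), Nat.card_Ioc]
    · omega
    · rw [Finset.mem_coe, Finset.mem_Ioc] at hi hj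
      exact P_inj (by omega) (by omega) h
  have hTI : Ind G T := by
    obtain ⟨A, hAT, hA3, hAI⟩ := hP.2 T hTR hT3
    rwa [Finset.eq_of_subset_of_card_le hAT (by rw [hT3, hA3])] at hAI
  have h1 : Ind (G ⧸ R) T := hTI.map_of_ker (QuotientGroup.mk' R) (fun r hr => hRprime r (hTR hr)) (fun r hr => by
    rw [QuotientGroup.ker_mk']
    exact hradR r (hTR hr))
  have hMn := Cfsg.Agent.H831.DPSolv.sSup_normal hinv
  have h2 := h1.of_index (N := sSup 𝓐 ⊔ centralizer ((sSup 𝓐 : Subgroup (G ⧸ R)) : Set (G ⧸ R)))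
    (fun r hr => hRprime r (hTR hr)) (fun r hr => hidx r (hTR hr))
  have hinj := prodHom_injective (center_sSup hN hA)
  have h3 : Ind (↥(sSup 𝓐 : Subgroup (G ⧸ R)) × ↥(centralizer ((sSup 𝓐 : Subgroup (G ⧸ R)) : Set (G ⧸ R)))) T := by
    obtain ⟨x, hx⟩ := h2
    obtain ⟨y, hy⟩ : (x : G ⧸ R) ∈ (prodHom (sSup 𝓐 : Subgroup (G ⧸ R))).range := by
      rw [range_prodHom]
      exact x.2
    refine ⟨y, fun r hr => ?_⟩
    rw [← orderOf_injective _ hinj, hy, Subgroup.orderOf_coe]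
    exact hx r hr
  obtain ⟨T₁, hT₁, h4, h5⟩ := h3.split (fun r hr => hRprime r (hTR hr))
  have h6 : T₁ = T := by
    apply Finset.Subset.antisymm hT₁
    intro r hr
    by_contra hr1
    have hr2 : r ∈ T \ T₁ := Finset.mem_sdiff.2 ⟨hr, hr1⟩
    exact hcen r (hTR hr) (h5.prime_dvd_card hr2)
  rw [h6] at h4
  have h7 := sSup_surj (comm_of hA) (fun r hr => hRprime r (hTR hr)) (fun C hC T' hT' hI' => by
    obtain ⟨m, h8, h9, ⟨e⟩⟩ := hmin C hC
    exact ind_pl_card_le_one hF h9 hBR (hT'.trans hTR) (hI'.congr e)) (by rw [hcard, hT3]) h4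
  refine ⟨hs, hN, hA, hinv, hcard, ?_, hradR⟩
  intro S hS
  obtain ⟨m, h8, h9, ⟨e⟩⟩ := hmin S hS
  obtain ⟨r, hr, hrS⟩ := h7 S hS
  refine ⟨m, ?_, h9, ⟨e⟩⟩
  rw [Nat.card_congr e.toEquiv, dvd_card hF (hRprime r (hTR hr)) (hR2 r (hTR hr))] at hrS
  rw [hT, Finset.mem_image] at hr
  obtain ⟨i, hi, rfl⟩ := hr
  rw [Finset.mem_Ioc] at hi
  rw [P_ord (by omega)] at hrS
  omega

end Cfsg.Agent.H826.DP
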